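import Mathlib

/-! The fundamental inequality `e * f ≤ n` for extensions of valuation rings. -/

set_option autoImplicit false

namespace ValExt

universe u

variable (A B K L : Type u) [CommRing A] [IsDomain A]
  [ValuationRing A] [CommRing B] [IsDomain B] [ValuationRing B] [Field K] [Field L]
  [Algebra A K] [IsFractionRing A K] [Algebra B L] [IsFractionRing B L] [Algebra A B] [Algebra K L]
  [Algebra A L] [IsScalarTower A K L] [IsScalarTower A B L]

/-- Units of `B` inside `Lˣ`. -/
abbrev UB : Subgroup Lˣ := (Units.map (algebraMap B L).toMonoidHom).range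

/-- The image of the value group of the base. -/
abbrev ΓA : Subgroup (Lˣ ⧸ UB B L) :=
  ((QuotientGroup.mk' (UB B L)).comp (Units.map (algebraMap K L).toMonoidHom)).range

theorem mem_UB_of_val_eq_one {x : Lˣ} (h : ValuationRing.valuation B L (x : L) = 1) :
    x ∈ UB B L := by
  obtain ⟨b, hb⟩ := (ValuationRing.mem_integer_iff B L _).1 h.le
  have hinv : ValuationRing.valuation B L ((x⁻¹ : Lˣ) : L) = 1 := by
    rw [Units.val_inv_eq_inv_val, map_inv₀, h, inv_one]
  obtain ⟨b', hb'⟩ := (ValuationRing.mem_integer_iff B L _).1 hinv.le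
  have hbb : b * b' = 1 := IsFractionRing.injective B L (by
    rw [map_mul, hb, hb', map_one, Units.mul_inv])
  exact ⟨Units.mkOfMulEqOne b b' hbb, Units.ext hb⟩

theorem val_unit {b : B} (hb : IsUnit b) : ValuationRing.valuation B L (algebraMap B L b) = 1 := by
  obtain ⟨b', hb'⟩ := hb.exists_right_inv
  have h1 : ∀ c : B, ValuationRing.valuation B L (algebraMap B L c) ≤ 1 :=
    fun c => (ValuationRing.mem_integer_iff B L _).2 ⟨c, rfl⟩
  refine le_antisymm (h1 b) ?_
  calc (1 : ValuationRing.ValueGroup B L) =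
      ValuationRing.valuation B L (algebraMap B L b) * ValuationRing.valuation B L (algebraMap B L b') := by
        rw [← map_mul, ← map_mul, hb', map_one, map_one]
    _ ≤ _ := mul_le_of_le_one_right' (h1 b')

theorem card_mul_le [IsLocalHom (algebraMap A B)] [FiniteDimensional K L]
    (s : Finset ((Lˣ ⧸ UB B L) ⧸ ΓA B K L)) {ι : Type*} [Fintype ι]
    (ω : ι → IsLocalRing.ResidueField B) (hω : LinearIndependent (IsLocalRing.ResidueField A) ω) :
    s.card * Fintype.card ι ≤ Module.finrank K L := by
  classical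
  choose w hw using fun j => IsLocalRing.residue_surjective (ω j)
  choose g hg using fun q : (Lˣ ⧸ UB B L) ⧸ ΓA B K L => QuotientGroup.mk_surjective q
  choose π hπ using fun q : Lˣ ⧸ UB B L => QuotientGroup.mk_surjective q
  let ρ : s → Lˣ := fun q => π (g q)
  suffices hli : LinearIndependent K (fun p : s × ι => (ρ p.1 : L) * algebraMap B L (w p.2)) by
    have := hli.fintype_card_le_finrank
    rwa [Fintype.card_prod, Fintype.card_coe] at this
  rw [Fintype.linearIndependent_iff]
  intro c hc
  by_contra hne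
  push_neg at hne
  obtain ⟨⟨q₁, j₁⟩, hp⟩ := hne
  -- the part in one coset
  have hstep : ∀ q : s, (∀ j, c (q, j) = 0) ∨
      ∃ d : Kˣ, ValuationRing.valuation B L (∑ j, c (q, j) • ((ρ q : L) * algebraMap B L (w j))) =
        ValuationRing.valuation B L ((Units.map (algebraMap K L).toMonoidHom d * ρ q : Lˣ) : L) := by
    intro q
    by_cases h0 : ∀ j, c (q, j) = 0
    · exact Or.inl h0
    push_neg at h0
    obtain ⟨j, hj⟩ := h0
    obtain ⟨j₀, -, hmax⟩ := Finset.exists_max_image Finset.univ
      (fun j => ValuationRing.valuation A K (c (q, j))) ⟨j, Finset.mem_univ _⟩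
    have hc0 : c (q, j₀) ≠ 0 := fun h => by
      have := hmax j (Finset.mem_univ _)
      rw [h, map_zero, le_zero_iff, Valuation.zero_iff] at this
      exact hj this
    have hdiv : ∀ j, ∃ a : A, algebraMap A K a = c (q, j) / c (q, j₀) := fun j => by
      refine (ValuationRing.mem_integer_iff A K _).1 ?_
      rw [Valuation.mem_integer_iff, map_div₀]
      exact div_le_one_of_le₀ (hmax j (Finset.mem_univ _)) zero_le'
    choose a ha using hdiv
    have ha₀ : a j₀ = 1 := IsFractionRing.injective A K (by rw [ha, map_one, div_self hc0])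
    have hu : IsUnit (∑ j, algebraMap A B (a j) * w j) := by
      rw [← IsLocalRing.residue_ne_zero_iff_isUnit, map_sum]
      intro h
      have h2 := Fintype.linearIndependent_iff.1 hω (fun j => IsLocalRing.residue A (a j)) (by
        rw [← h]
        refine Finset.sum_congr rfl fun j _ => ?_
        rw [map_mul, hw, Algebra.smul_def]
        rfl) j₀
      rw [ha₀, map_one] at h2
      exact one_ne_zero h2
    refine Or.inr ⟨Units.mk0 _ hc0, ?_⟩
    have : ∑ j, c (q, j) • ((ρ q : L) * algebraMap B L (w j)) =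
        (algebraMap K L (c (q, j₀)) * ρ q) * algebraMap B L (∑ j, algebraMap A B (a j) * w j) := by
      rw [map_sum, Finset.mul_sum]
      refine Finset.sum_congr rfl fun j _ => ?_
      rw [map_mul, ← IsScalarTower.algebraMap_apply A B L, IsScalarTower.algebraMap_apply A K L, ha,
        Algebra.smul_def, map_div₀]
      have : algebraMap K L (c (q, j₀)) ≠ 0 := (map_ne_zero _).2 hc0
      field_simp
    rw [this, map_mul, val_unit B L hu, mul_one]
    rfl
  let t : s → L := fun q => ∑ j, c (q, j) • ((ρ q : L) * algebraMap B L (w j))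
  have hsum : ∑ q, t q = 0 := by
    rw [← hc, Fintype.sum_prod_type]
  let S := Finset.univ.filter fun q => t q ≠ 0
  have hS : ∀ q, q ∈ S ↔ ∃ j, c (q, j) ≠ 0 := fun q => by
    simp only [S, Finset.mem_filter, Finset.mem_univ, true_and]
    refine ⟨fun h => ?_, fun ⟨j, hj⟩ h => ?_⟩
    · by_contra h'
      push_neg at h'
      exact h (Finset.sum_eq_zero fun j _ => by rw [h', zero_smul])
    · rcases hstep q with h' | ⟨d, hd⟩
      · exact hj (h' j)
      · rw [show ∑ j, c (q, j) • ((ρ q : L) * algebraMap B L (w j)) = 0 from h, map_zero] at hd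
        exact Units.ne_zero _ ((Valuation.zero_iff _).1 hd.symm)
  have hinj : ∀ q ∈ S, ∀ q' ∈ S,
      ValuationRing.valuation B L (t q) = ValuationRing.valuation B L (t q') → q = q' := by
    intro q hq q' hq' h
    obtain ⟨j, hj⟩ := (hS q).1 hq
    obtain ⟨j', hj'⟩ := (hS q').1 hq'
    obtain ⟨d, hd⟩ := (hstep q).resolve_left fun h => hj (h j)
    obtain ⟨d', hd'⟩ := (hstep q').resolve_left fun h => hj' (h j')
    set x := Units.map (algebraMap K L).toMonoidHom d * ρ q
    set x' := Units.map (algebraMap K L).toMonoidHom d' * ρ q'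
    have hxx : x⁻¹ * x' ∈ UB B L := by
      apply mem_UB_of_val_eq_one
      rw [Units.val_mul, map_mul, Units.val_inv_eq_inv_val, map_inv₀, ← hd, ← hd']
      change (ValuationRing.valuation B L (t q))⁻¹ * ValuationRing.valuation B L (t q') = 1
      rw [← h, inv_mul_cancel₀]
      exact (Valuation.ne_zero_iff _).2 (Finset.mem_filter.1 hq).2
    have h1 : (x : Lˣ ⧸ UB B L) = x' := QuotientGroup.eq.2 hxx
    have h2 : ∀ (d : Kˣ) (q : s),
        ((Units.map (algebraMap K L).toMonoidHom d * ρ q : Lˣ) : Lˣ ⧸ UB B L) =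
          ((QuotientGroup.mk' (UB B L)).comp (Units.map (algebraMap K L).toMonoidHom) d) * g q := by
      intro d q
      rw [QuotientGroup.mk_mul]
      exact congrArg₂ (· * ·) rfl (hπ (g q))
    have h3 : (g q : Lˣ ⧸ UB B L)⁻¹ * g q' ∈ ΓA B K L := by
      refine ⟨d * d'⁻¹, ?_⟩
      have h4 := (h2 d q).symm.trans (h1.trans (h2 d' q'))
      rw [map_mul, map_inv]
      rw [eq_inv_mul_iff_mul_eq, mul_comm (g q : Lˣ ⧸ UB B L), mul_assoc, mul_comm _ (g q),
        ← mul_assoc, h4, mul_comm _ (g q'), mul_assoc, mul_inv_cancel, mul_one]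
    apply Subtype.ext
    rw [← hg q, ← hg q']
    exact QuotientGroup.eq.2 h3
  obtain ⟨q₂, hq₂, hmax⟩ := Finset.exists_max_image S (fun q => ValuationRing.valuation B L (t q))
    ⟨q₁, (hS q₁).2 ⟨j₁, hp⟩⟩
  have hlt : ∀ i ∈ S.erase q₂, ValuationRing.valuation B L (t i) < ValuationRing.valuation B L (t q₂) :=
    fun i hi => (hmax i (Finset.mem_of_mem_erase hi)).lt_of_ne fun h =>
      Finset.ne_of_mem_erase hi (hinj i (Finset.mem_of_mem_erase hi) q₂ hq₂ h)
  have := Valuation.map_sum_eq_of_lt (ValuationRing.valuation B L) hq₂ (f := t) fun i hi =>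
    hlt i (Finset.mem_erase.2 ⟨fun h => (Finset.mem_sdiff.1 hi).2 (Finset.mem_singleton.2 h),
      (Finset.mem_sdiff.1 hi).1⟩)
  rw [Finset.sum_filter_ne_zero, hsum, map_zero] at this
  exact (Finset.mem_filter.1 hq₂).2 ((Valuation.zero_iff _).1 this.symm)

theorem fundamental_inequality [IsLocalHom (algebraMap A B)] [FiniteDimensional K L] :
    Module.Finite (IsLocalRing.ResidueField A) (IsLocalRing.ResidueField B) ∧
      (ΓA B K L).index ≠ 0 ∧
      (ΓA B K L).index * Module.finrank (IsLocalRing.ResidueField A) (IsLocalRing.ResidueField B) ≤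
        Module.finrank K L := by
  classical
  have hfin : Module.Finite (IsLocalRing.ResidueField A) (IsLocalRing.ResidueField B) := by
    rw [← Module.rank_lt_aleph0_iff]
    refine lt_of_le_of_lt (rank_le (n := Module.finrank K L) fun s hs => ?_) Cardinal.natCast_lt_aleph0
    simpa using card_mul_le A B K L {QuotientGroup.mk (1 : Lˣ ⧸ UB B L)} (fun i : s => (i : IsLocalRing.ResidueField B)) hs
  have hb := Module.finBasis (IsLocalRing.ResidueField A) (IsLocalRing.ResidueField B)
  have hone : LinearIndependent (IsLocalRing.ResidueField A)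
      (fun _ : Fin 1 => (1 : IsLocalRing.ResidueField B)) :=
    LinearIndependent.of_subsingleton 0 one_ne_zero
  have hle : ∀ s : Finset ((Lˣ ⧸ UB B L) ⧸ ΓA B K L), s.card ≤ Module.finrank K L := fun s => by
    simpa using card_mul_le A B K L s _ hone
  have : Finite ((Lˣ ⧸ UB B L) ⧸ ΓA B K L) := by
    by_contra h
    rw [not_finite_iff_infinite] at h
    obtain ⟨s, hs⟩ := Infinite.exists_subset_card_eq ((Lˣ ⧸ UB B L) ⧸ ΓA B K L) (Module.finrank K L + 1)
    have := hle s
    omega
  haveI := Fintype.ofFinite ((Lˣ ⧸ UB B L) ⧸ ΓA B K L)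
  refine ⟨hfin, Subgroup.index_ne_zero_of_finite, ?_⟩
  have := card_mul_le A B K L Finset.univ _ hb.linearIndependent
  rwa [Finset.card_univ, Fintype.card_fin, ← Nat.card_eq_fintype_card] at this

end ValExt
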